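import Mathlib.LinearAlgebra.Dual.Lemmas
import Mathlib.LinearAlgebra.Dimension.Finite
import Mathlib.RingTheory.Localization.Integer
import Mathlib.RingTheory.Localization.FractionRing
import Mathlib.LinearAlgebra.Dimension.Localization
import Mathlib.Algebra.Module.LocalizedModule.Exact
import Mathlib.RingTheory.Noetherian.Basic
import Mathlib.LinearAlgebra.Basis.VectorSpace
import Mathlib.Algebra.Module.Torsion.Free

set_option autoImplicit false
universe u v
open Module

namespace Groth.Agent.TF3

variable {R : Type u} [CommRing R] [IsDomain R] {M : Type v} [AddCommGroup M] [Module R M]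

lemma exists_cofinal_free [Module.Finite R M] :
    ∃ (g : (Fin (Module.finrank R M) → R) →ₗ[R] M), Function.Injective g ∧
      ∃ d : R, d ≠ 0 ∧ ∀ x : M, d • x ∈ LinearMap.range g := by
  classical
  obtain ⟨v, hv⟩ := exists_linearIndependent_of_le_finrank (R := R) (M := M)
    (n := Module.finrank R M) le_rfl
  let g : (Fin (Module.finrank R M) → R) →ₗ[R] M := Fintype.linearCombination R v
  have hg : Function.Injective g := hv.fintypeLinearCombination_injective
  have hone : ∀ x : M, ∃ c : R, c ≠ 0 ∧ c • x ∈ LinearMap.range g := by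
    intro x
    have hdep : ¬ LinearIndependent R (Fin.cons x v : Fin (Module.finrank R M + 1) → M) := fun h => by
      have := h.fintype_card_le_finrank
      simp at this
    obtain ⟨a, hsum, i, hi⟩ := Fintype.not_linearIndependent_iff.mp hdep
    rw [Fin.sum_univ_succ] at hsum
    simp only [Fin.cons_zero, Fin.cons_succ] at hsum
    refine ⟨a 0, fun h0 => hi ?_, -(fun k => a k.succ), ?_⟩
    · rw [h0, zero_smul, zero_add] at hsum
      have := Fintype.linearIndependent_iff.mp hv _ hsum
      exact Fin.cases h0 this i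
    · rw [map_neg]
      simp only [g, Fintype.linearCombination_apply]
      exact (eq_neg_of_add_eq_zero_left hsum).symm
  choose c hc hcm using hone
  obtain ⟨T, hT⟩ := Module.Finite.fg_top (R := R) (M := M)
  refine ⟨g, hg, ∏ t ∈ T, c t, Finset.prod_ne_zero_iff.mpr fun t _ => hc t, fun x => ?_⟩
  have : Submodule.span R (T : Set M) ≤
      (LinearMap.range g).comap (LinearMap.lsmul R M (∏ t ∈ T, c t)) := by
    rw [Submodule.span_le]
    intro t ht
    rw [SetLike.mem_coe, Submodule.mem_comap, LinearMap.lsmul_apply,
      ← Finset.prod_erase_mul _ _ ht, mul_smul]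
    exact Submodule.smul_mem _ _ (hcm t)
  exact this (hT ▸ Submodule.mem_top)

/-- Maps in both directions with composites multiplication by `d`. -/
lemma exists_rank_maps [Module.Finite R M] :
    ∃ (g : (Fin (Module.finrank R M) → R) →ₗ[R] M) (h : M →ₗ[R] (Fin (Module.finrank R M) → R))
      (d : R), d ≠ 0 ∧ Function.Injective g ∧ (∀ x, g (h x) = d • x) ∧ ∀ y, h (g y) = d • y := by
  obtain ⟨g, hg, d, hd, hrange⟩ := exists_cofinal_free (R := R) (M := M)
  let h := (LinearEquiv.ofInjective g hg).symm.toLinearMap ∘ₗ
    (d • (LinearMap.id : M →ₗ[R] M)).codRestrict (LinearMap.range g) hrange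
  have hh : ∀ x, g (h x) = d • x := fun x =>
    congrArg Subtype.val ((LinearEquiv.ofInjective g hg).apply_symm_apply _)
  exact ⟨g, h, d, hd, hg, hh, fun y => hg (by rw [hh, map_smul])⟩

lemma exists_injective_of_torsionFree [Module.Finite R M] [Module.IsTorsionFree R M] :
    ∃ (n : ℕ) (f : M →ₗ[R] (Fin n → R)), Function.Injective f := by
  obtain ⟨g, h, d, hd, -, hgh, -⟩ := exists_rank_maps (R := R) (M := M)
  refine ⟨_, h, fun a b hab => smul_right_injective M hd ?_⟩
  simp only [← hgh, hab]

lemma eval_injective [Module.Finite R M] [Module.IsTorsionFree R M] :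
    Function.Injective (Module.Dual.eval R M) := by
  obtain ⟨n, f, hf⟩ := exists_injective_of_torsionFree (R := R) (M := M)
  intro a b hab
  apply hf
  funext i
  exact LinearMap.congr_fun hab (LinearMap.proj i ∘ₗ f)

lemma isTorsionFree_of_injective {N : Type*} [AddCommGroup N] [Module R N]
    [Module.IsTorsionFree R N] (f : M →ₗ[R] N) (hf : Function.Injective f) :
    Module.IsTorsionFree R M :=
  hf.moduleIsTorsionFree f (map_smul f)

/-- A functional extends along an injection after multiplying by a nonzero scalar. -/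
lemma exists_extend_smul {N : Type*} [AddCommGroup N] [Module R N] [Module.Finite R N]
    (f : M →ₗ[R] N) (hf : Function.Injective f) (φ : M →ₗ[R] R) :
    ∃ (c : R) (ψ : N →ₗ[R] R), c ≠ 0 ∧ ψ ∘ₗ f = c • φ := by
  classical
  let K := FractionRing R
  let S := nonZeroDivisors R
  let F := LocalizedModule.map S f
  have hF : Function.Injective F := LocalizedModule.map_injective S f hf
  let Φ := LocalizedModule.map S φ
  let e : LocalizedModule S R ≃ₗ[R] K :=
    IsLocalizedModule.linearEquiv S (LocalizedModule.mkLinearMap S R) (Algebra.linearMap R K)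
  obtain ⟨G, hG⟩ := F.exists_leftInverse_of_injective (LinearMap.ker_eq_bot.mpr hF)
  let φK : N →ₗ[R] K := e.toLinearMap ∘ₗ ((Φ ∘ₗ G).restrictScalars R) ∘ₗ LocalizedModule.mkLinearMap S N
  obtain ⟨T, hT⟩ := Module.Finite.fg_top (R := R) (M := N)
  obtain ⟨⟨c, hc⟩, hcT⟩ := IsLocalization.exist_integer_multiples_of_finset S (T.image φK)
  have hmem : ∀ x, c • φK x ∈ LinearMap.range (Algebra.linearMap R K) := by
    intro x
    have : Submodule.span R (T : Set N) ≤
        (LinearMap.range (Algebra.linearMap R K)).comap (c • φK) := by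
      rw [Submodule.span_le]
      intro t ht
      obtain ⟨r, hr⟩ := hcT (φK t) (Finset.mem_image_of_mem _ ht)
      exact ⟨r, hr⟩
    exact this (hT ▸ Submodule.mem_top)
  have hinj : Function.Injective (Algebra.linearMap R K) := IsFractionRing.injective R K
  let ψ : N →ₗ[R] R := (LinearEquiv.ofInjective _ hinj).symm.toLinearMap ∘ₗ
    (c • φK).codRestrict (LinearMap.range (Algebra.linearMap R K)) hmem
  refine ⟨c, ψ, nonZeroDivisors.ne_zero hc, LinearMap.ext fun x => hinj ?_⟩
  have h1 : Algebra.linearMap R K (ψ (f x)) = c • φK (f x) :=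
    congrArg Subtype.val ((LinearEquiv.ofInjective _ hinj).apply_symm_apply _)
  have h2 : φK (f x) = algebraMap R K (φ x) := by
    have h3 : LocalizedModule.mkLinearMap S N (f x) = F (LocalizedModule.mkLinearMap S M x) := by
      simp [F, LocalizedModule.map_mk]
    simp only [φK, LinearMap.comp_apply, LinearMap.restrictScalars_apply, h3]
    rw [← LinearMap.comp_apply G F, hG, LinearMap.id_apply]
    show e (Φ (LocalizedModule.mkLinearMap S M x)) = _
    rw [show Φ (LocalizedModule.mkLinearMap S M x) = LocalizedModule.mkLinearMap S R (φ x) by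
      simp [Φ, LocalizedModule.map_mk]]
    exact IsLocalizedModule.linearEquiv_apply S _ _ _
  rw [LinearMap.comp_apply, h1, h2, LinearMap.smul_apply]
  simp [Algebra.smul_def]

/-- Kernel of a map from a reflexive module to a torsion free one. -/
lemma isReflexive_of_exact {M' M'' : Type*} [AddCommGroup M'] [Module R M'] [Module.Finite R M']
    [AddCommGroup M''] [Module R M''] [Module.Finite R M'']
    (f : M →ₗ[R] M') (g : M' →ₗ[R] M'') (hf : Function.Injective f) (hfg : Function.Exact f g)
    [Module.IsReflexive R M'] [Module.IsTorsionFree R M''] : Module.IsReflexive R M := by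
  have hnat := Module.Dual.eval_naturality f
  refine ⟨fun a b hab => hf ((Module.bijective_dual_eval R M').1 ?_), fun y => ?_⟩
  · rw [← LinearMap.comp_apply (Module.Dual.eval R M'), ← LinearMap.comp_apply (Module.Dual.eval R M'),
      ← hnat, LinearMap.comp_apply, LinearMap.comp_apply, hab]
  obtain ⟨x', hx'⟩ := (Module.bijective_dual_eval R M').2 (f.dualMap.dualMap y)
  have hgx : g x' = 0 := by
    apply eval_injective (R := R)
    rw [map_zero]
    refine LinearMap.ext fun χ => ?_
    have h1 := LinearMap.congr_fun hx' (χ ∘ₗ g)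
    have h2 : (χ ∘ₗ g) ∘ₗ f = 0 := by
      rw [LinearMap.comp_assoc, hfg.linearMap_comp_eq_zero, LinearMap.comp_zero]
    simp only [Module.Dual.eval_apply, LinearMap.comp_apply, LinearMap.dualMap_apply'] at h1
    rw [h2, map_zero] at h1
    simpa using h1
  obtain ⟨x, rfl⟩ := (hfg x').1 hgx
  refine ⟨x, LinearMap.ext fun φ => ?_⟩
  obtain ⟨c, ψ, hc, hψ⟩ := exists_extend_smul f hf φ
  have h1 := LinearMap.congr_fun hx' ψ
  simp only [Module.Dual.eval_apply, LinearMap.dualMap_apply'] at h1
  rw [LinearMap.comp_apply, LinearMap.dualMap_apply', hψ, map_smul] at h1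
  have h2 : ψ (f x) = c • φ x := LinearMap.congr_fun hψ x
  rw [h2] at h1
  exact mul_left_cancel₀ hc h1

lemma exists_reflexive_presentation [IsNoetherianRing R] [Module.Finite R M]
    [Module.IsReflexive R M] :
    ∃ (n : ℕ) (f : M →ₗ[R] (Fin n → R)), Function.Injective f ∧
      Module.IsTorsionFree R ((Fin n → R) ⧸ LinearMap.range f) := by
  classical
  obtain ⟨a, h, hh⟩ : ∃ (a : ℕ) (h : M →ₗ[R] (Fin a → R)), Function.Injective h :=
    exists_injective_of_torsionFree
  have : Module.Finite R (Module.Dual R M) := by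
    obtain ⟨b, π, hπ⟩ := Module.Finite.exists_fin' R M
    have : IsNoetherian R (Module.Dual R (Fin b → R)) := isNoetherian_of_isNoetherianRing_of_finite R _
    exact Module.Finite.of_injective π.dualMap (LinearMap.dualMap_injective_of_surjective hπ)
  obtain ⟨n, π, hπ⟩ := Module.Finite.exists_fin' R (Module.Dual R M)
  obtain ⟨m, ρ, hρ⟩ := Module.Finite.exists_fin' R (LinearMap.ker π)
  let f : M →ₗ[R] (Fin n → R) := LinearMap.pi fun i => π (Pi.single i 1)
  have hfπ : ∀ (x : M) (c : Fin n → R), π c x = ∑ i, c i * f x i := by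
    intro x c
    conv_lhs => rw [pi_eq_sum_univ' c]
    simp [f]
  refine ⟨n, f, fun x y hxy => (Module.bijective_dual_eval R M).1 (LinearMap.ext fun φ => ?_), ?_⟩
  · obtain ⟨c, rfl⟩ := hπ φ
    simp only [Module.Dual.eval_apply, hfπ, hxy]
  let g : (Fin n → R) →ₗ[R] (Fin m → R) :=
    LinearMap.pi fun j => Fintype.linearCombination R ((ρ (Pi.single j 1) : LinearMap.ker π) : Fin n → R)
  have hker : LinearMap.ker g = LinearMap.range f := by
    apply le_antisymm
    · intro v hv
      have hle : LinearMap.ker π ≤ LinearMap.ker (Fintype.linearCombination R v) := by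
        intro c hc
        obtain ⟨z, hz⟩ := hρ ⟨c, hc⟩
        have h1 : ∀ j, Fintype.linearCombination R v ((ρ (Pi.single j 1) : LinearMap.ker π) : Fin n → R) = 0 := by
          intro j
          have := congrFun (LinearMap.mem_ker.mp hv) j
          simpa [g, Fintype.linearCombination_apply, mul_comm] using this
        rw [LinearMap.mem_ker, show c = ((ρ z : LinearMap.ker π) : Fin n → R) by rw [hz],
          pi_eq_sum_univ' z, map_sum, Submodule.coe_sum, map_sum]
        exact Finset.sum_eq_zero fun j _ => by rw [map_smul, Submodule.coe_smul, map_smul, h1, smul_zero]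
      obtain ⟨x, hx⟩ := (Module.bijective_dual_eval R M).2
        ((LinearMap.ker π).liftQ (Fintype.linearCombination R v) hle ∘ₗ
          (π.quotKerEquivOfSurjective hπ).symm.toLinearMap)
      refine ⟨x, funext fun i => ?_⟩
      have h2 := LinearMap.congr_fun hx (π (Pi.single i 1))
      have h3 : (π.quotKerEquivOfSurjective hπ).symm (π (Pi.single i 1)) =
          Submodule.Quotient.mk (Pi.single i 1) :=
        (LinearEquiv.symm_apply_eq _).mpr (by simp)
      simp only [Module.Dual.eval_apply, LinearMap.comp_apply, LinearEquiv.coe_coe, h3,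
        Submodule.liftQ_apply, Fintype.linearCombination_apply_single, one_smul] at h2
      exact h2
    · rintro _ ⟨x, rfl⟩
      refine LinearMap.mem_ker.mpr (funext fun j => ?_)
      have h1 := hfπ x ((ρ (Pi.single j 1) : LinearMap.ker π) : Fin n → R)
      rw [LinearMap.mem_ker.mp (ρ (Pi.single j 1)).2, LinearMap.zero_apply] at h1
      simpa [g, Fintype.linearCombination_apply, mul_comm] using h1.symm
  rw [← hker]
  exact isTorsionFree_of_injective (M := (Fin n → R) ⧸ LinearMap.ker g)
    ((LinearMap.ker g).liftQ g le_rfl)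
    (by rw [← LinearMap.ker_eq_bot, Submodule.ker_liftQ_eq_bot _ _ _ le_rfl])

end Groth.Agent.TF3
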