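import Mathlib.RingTheory.Ideal.AssociatedPrime.Basic
import Mathlib.RingTheory.IntegralClosure.Algebra.Basic
import Mathlib.RingTheory.IntegralClosure.IntegrallyClosed
import Mathlib.Algebra.Module.FinitePresentation
import Groth.Agent.TF3.Basic

set_option autoImplicit false
universe u v
open Module

namespace Groth.Agent.TF3

variable {R : Type u} [CommRing R]

lemma finite_dual [IsNoetherianRing R] {M : Type v} [AddCommGroup M] [Module R M] [Module.Finite R M] :
    Module.Finite R (Module.Dual R M) := by
  obtain ⟨b, π, hπ⟩ := Module.Finite.exists_fin' R M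
  have : IsNoetherian R (Module.Dual R (Fin b → R)) := isNoetherian_of_isNoetherianRing_of_finite R _
  exact Module.Finite.of_injective π.dualMap (LinearMap.dualMap_injective_of_surjective hπ)

variable [IsDomain R]

lemma isReflexive_dual [IsNoetherianRing R] {M : Type v} [AddCommGroup M] [Module R M]
    [Module.Finite R M] : Module.IsReflexive R (Module.Dual R M) := by
  obtain ⟨n, π, hπ⟩ := Module.Finite.exists_fin' R M
  have : Module.Finite R (Module.Dual R M) := finite_dual
  have : Module.Finite R (LinearMap.ker π) :=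
    Module.Finite.iff_fg.mpr (IsNoetherian.noetherian _)
  obtain ⟨m, ρ, hρ⟩ := Module.Finite.exists_fin' R (LinearMap.ker π)
  refine isReflexive_of_exact π.dualMap ((LinearMap.ker π).subtype ∘ₗ ρ).dualMap
    (LinearMap.dualMap_injective_of_surjective hπ) fun φ => ⟨fun h => ?_, ?_⟩
  · refine ⟨(LinearMap.ker π).liftQ φ (fun x hx => ?_) ∘ₗ
      (π.quotKerEquivOfSurjective hπ).symm.toLinearMap, LinearMap.ext fun x => ?_⟩
    · obtain ⟨z, hz⟩ := hρ ⟨x, hx⟩
      have := LinearMap.congr_fun h z
      simpa [LinearMap.dualMap_apply, hz] using this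
    · have h3 : (π.quotKerEquivOfSurjective hπ).symm (π x) = Submodule.Quotient.mk x :=
        (LinearEquiv.symm_apply_eq _).mpr (by simp)
      simp [LinearMap.dualMap_apply, h3]
  · rintro ⟨ψ, rfl⟩
    ext z
    simp [LinearMap.dualMap_apply]

variable {M N : Type v} [AddCommGroup M] [Module R M] [AddCommGroup N] [Module R N]

lemma isReflexive_hom [IsNoetherianRing R] [Module.Finite R M] [Module.Finite R N]
    [Module.IsReflexive R N] : Module.IsReflexive R (M →ₗ[R] N) := by
  classical
  obtain ⟨a, f, hf⟩ := exists_injective_of_torsionFree (R := R) (M := N)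
  obtain ⟨n, π, hπ⟩ := Module.Finite.exists_fin' R M
  let j : (M →ₗ[R] N) →ₗ[R] (Fin n × Fin a → R) := LinearMap.pi fun q =>
    (LinearMap.proj q.2 ∘ₗ f) ∘ₗ LinearMap.applyₗ (π (Pi.single q.1 1))
  have hj : Function.Injective j := by
    intro φ φ' h
    rw [← LinearMap.cancel_right hπ]
    refine LinearMap.pi_ext' fun i => LinearMap.ext_ring (hf (funext fun k => ?_))
    exact congrFun h (i, k)
  have : Module.IsTorsionFree R (M →ₗ[R] N) := isTorsionFree_of_injective j hj
  have : Module.Finite R (M →ₗ[R] N) := Module.Finite.of_injective j hj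
  refine ⟨eval_injective, fun y => ?_⟩
  let ν : M →ₗ[R] Module.Dual R (Module.Dual R N) :=
    { toFun := fun x => y ∘ₗ (LinearMap.applyₗ x : (M →ₗ[R] N) →ₗ[R] N).dualMap
      map_add' := fun x x' => by
        refine LinearMap.ext fun ψ => ?_
        simp only [LinearMap.comp_apply, LinearMap.add_apply]
        rw [← map_add]
        exact congrArg y (LinearMap.ext fun φ => by simp [LinearMap.dualMap_apply])
      map_smul' := fun c x => by
        refine LinearMap.ext fun ψ => ?_
        simp only [LinearMap.comp_apply, LinearMap.smul_apply, RingHom.id_apply]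
        rw [← map_smul]
        exact congrArg y (LinearMap.ext fun φ => by simp [LinearMap.dualMap_apply]) }
  let Φ : M →ₗ[R] N := (Module.evalEquiv R N).symm.toLinearMap ∘ₗ ν
  refine ⟨Φ, LinearMap.ext fun ξ => ?_⟩
  obtain ⟨c, ξ', hc, hξ⟩ := exists_extend_smul j hj ξ
  have hdec : c • ξ = ∑ q : Fin n × Fin a, ξ' (Pi.single q 1) •
      (LinearMap.applyₗ (π (Pi.single q.1 1)) : (M →ₗ[R] N) →ₗ[R] N).dualMap (LinearMap.proj q.2 ∘ₗ f) := by
    rw [← hξ]
    refine LinearMap.ext fun φ => ?_
    rw [LinearMap.comp_apply]
    conv_lhs => rw [pi_eq_sum_univ' (j φ)]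
    simp [j, LinearMap.dualMap_apply, mul_comm]
  have hkey : ∀ (x : M) (ψ : Module.Dual R N),
      ψ (Φ x) = y ((LinearMap.applyₗ x : (M →ₗ[R] N) →ₗ[R] N).dualMap ψ) := fun x ψ => by
    simp [Φ, ν]
  apply mul_left_cancel₀ hc
  rw [← smul_eq_mul, ← smul_eq_mul, ← map_smul, ← map_smul, hdec, map_sum, map_sum]
  refine Finset.sum_congr rfl fun q _ => ?_
  rw [map_smul, map_smul]
  congr 1
  rw [Module.Dual.eval_apply, LinearMap.dualMap_apply]
  exact hkey _ _

lemma isReflexive_integralClosure (A K L : Type u) [CommRing A] [IsDomain A] [IsNoetherianRing A]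
    [Field K] [Algebra A K] [IsFractionRing A K] [Field L] [Algebra K L] [Algebra A L]
    [IsScalarTower A K L] [Module.Finite A ↥(integralClosure A L)] :
    Module.IsReflexive A ↥(integralClosure A L) := by
  classical
  let B := ↥(integralClosure A L)
  have hAL : Function.Injective (algebraMap A L) := by
    rw [IsScalarTower.algebraMap_eq A K L]
    exact (algebraMap K L).injective.comp (IsFractionRing.injective A K)
  have : Module.IsTorsionFree A L := by
    have : FaithfulSMul A L := (faithfulSMul_iff_algebraMap_injective A L).mpr hAL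
    infer_instance
  let incl : B →ₗ[A] L := (integralClosure A L).toSubmodule.subtype
  have : Module.IsTorsionFree A B := isTorsionFree_of_injective incl Subtype.val_injective
  let W := Module.Dual A (Module.Dual A B)
  have : Module.Finite A (Module.Dual A B) := finite_dual
  have : Module.Finite A W := finite_dual
  have : Module.IsReflexive A W := isReflexive_dual
  let e := Module.Dual.eval A B
  obtain ⟨g, h, c, hc, -, hgh, -⟩ := exists_rank_maps (R := A) (M := B)
  have hcW : ∀ w : W, ∃ b, e b = c • w := fun w => by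
    obtain ⟨v, hv⟩ := (Module.bijective_dual_eval A (Fin (Module.finrank A B) → A)).2 (h.dualMap.dualMap w)
    refine ⟨g v, LinearMap.ext fun φ => ?_⟩
    have h1 := LinearMap.congr_fun hv (g.dualMap φ)
    have h2 : h.dualMap (g.dualMap φ) = c • φ := LinearMap.ext fun x => by
      simp [LinearMap.dualMap_apply, hgh]
    rw [LinearMap.dualMap_apply, h2, map_smul] at h1
    exact h1
  choose r hr using hcW
  have hcL : algebraMap A L c ≠ 0 := (map_ne_zero_iff _ hAL).mpr hc
  have heinj : Function.Injective e := eval_injective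
  let ι : W →ₗ[A] L :=
    { toFun := fun w => (algebraMap A L c)⁻¹ * (r w : L)
      map_add' := fun w w' => by
        have : r (w + w') = r w + r w' := heinj (by rw [map_add, hr, hr, hr, smul_add])
        rw [this]
        exact mul_add _ (r w : L) (r w' : L)
      map_smul' := fun a w => by
        have : r (a • w) = a • r w := heinj (by rw [map_smul, hr, hr, smul_comm])
        rw [this]
        exact mul_smul_comm a _ (r w : L) }
  have hιe : ∀ b : B, ι (e b) = b := fun b => by
    have : r (e b) = c • b := heinj (by rw [hr, map_smul])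
    show (algebraMap A L c)⁻¹ * ((r (e b) : B) : L) = b
    rw [this]
    show (algebraMap A L c)⁻¹ * (c • (b : L)) = b
    rw [Algebra.smul_def, ← mul_assoc, inv_mul_cancel₀ hcL, one_mul]
  have hιinj : Function.Injective ι := by
    intro w w' hw
    have h1 : (r w : L) = r w' := mul_left_cancel₀ (inv_ne_zero hcL) hw
    have h2 := congrArg e (Subtype.ext h1 : r w = r w')
    rw [hr, hr] at h2
    exact smul_right_injective W hc h2
  refine ⟨heinj, fun y => ?_⟩
  let m : B → (B →ₗ[A] B) := fun b => LinearMap.mulLeft A b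
  let Lm : B →ₗ[A] W :=
    { toFun := fun b => (m b).dualMap.dualMap y
      map_add' := fun b b' => by
        refine LinearMap.ext fun φ => ?_
        show y ((m (b + b')).dualMap φ) = y ((m b).dualMap φ) + y ((m b').dualMap φ)
        rw [← map_add]
        exact congrArg y (LinearMap.ext fun x => (congrArg φ (add_mul b b' x)).trans (map_add φ _ _))
      map_smul' := fun a b => by
        refine LinearMap.ext fun φ => ?_
        show y ((m (a • b)).dualMap φ) = a • y ((m b).dualMap φ)
        rw [← map_smul]
        exact congrArg y (LinearMap.ext fun x =>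
          (congrArg φ (smul_mul_assoc a b x)).trans (map_smul φ _ _)) }
  let μ : W →ₗ[A] W := (Module.evalEquiv A W).symm.toLinearMap ∘ₗ Lm.dualMap.dualMap
  have hμe : ∀ b, μ (e b) = Lm b := fun b => by
    refine (Module.evalEquiv A W).symm_apply_eq.mpr ?_
    ext χ
    rfl
  let z := ι y
  have hLm : ∀ b : B, ι (Lm b) = (b : L) * z := fun b => by
    have h1 : c • Lm b = e (b * r y) := by
      show c • (m b).dualMap.dualMap y = _
      rw [← map_smul, ← hr y]
      ext φ
      simp [e, m, LinearMap.dualMap_apply]
    apply mul_left_cancel₀ hcL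
    rw [← Algebra.smul_def, ← map_smul, h1, hιe]
    show (b : L) * (r y : L) = algebraMap A L c * ((b : L) * ((algebraMap A L c)⁻¹ * (r y : L)))
    field_simp
  have hμ : ∀ w, ι (μ w) = z * ι w := fun w => by
    apply mul_left_cancel₀ hcL
    rw [← Algebra.smul_def, ← map_smul, ← map_smul, ← hr w, hμe, hLm, mul_left_comm,
      ← Algebra.smul_def c, ← map_smul, ← hr w, hιe, mul_comm]
  have hN : LinearMap.range ι ≠ ⊥ := fun hbot => by
    have h1 : ι (e 1) ∈ (⊥ : Submodule A L) := hbot ▸ ⟨e 1, rfl⟩
    rw [hιe, Submodule.mem_bot] at h1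
    exact one_ne_zero h1
  have hfg : (LinearMap.range ι).FG := LinearMap.range_eq_map ι ▸ Module.Finite.fg_top.map ι
  have hz : IsIntegral A z := isIntegral_of_smul_mem_submodule (LinearMap.range ι) hN hfg z fun w hw => by
    obtain ⟨w, rfl⟩ := hw
    exact ⟨μ w, hμ w⟩
  exact ⟨⟨z, hz⟩, hιinj (hιe ⟨z, hz⟩)⟩

end Groth.Agent.TF3
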