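import Mathlib
import Groth.Agent.TF3.Bidual

set_option autoImplicit false
universe u v
open Module

namespace Groth.Agent.TF3

variable {R : Type u} [CommRing R] (S : Submonoid R) (A : Type u) [CommRing A] [Algebra R A]
  [IsLocalization S A] {M : Type u} [AddCommGroup M] [Module R M] {Mp : Type u} [AddCommGroup Mp]
  [Module R Mp] [Module A Mp] [IsScalarTower R A Mp] (ι : M →ₗ[R] Mp) [IsLocalizedModule S ι]

noncomputable def dualMapLoc : Module.Dual R M →ₗ[R] Module.Dual A Mp :=
  IsLocalizedModule.mapExtendScalars S ι (Algebra.linearMap R A) A

lemma dualMapLoc_apply (φ : Module.Dual R M) (x : M) :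
    dualMapLoc S A ι φ (ι x) = algebraMap R A (φ x) :=
  IsLocalizedModule.map_apply S ι (Algebra.linearMap R A) φ x

instance [Module.FinitePresentation R M] : IsLocalizedModule S (dualMapLoc S A ι) :=
  Module.FinitePresentation.isLocalizedModule_mapExtendScalars S ι (Algebra.linearMap R A) A

lemma map_eval_eq [IsNoetherianRing R] [Module.Finite R M] :
    haveI : Module.FinitePresentation R M := Module.finitePresentation_of_finite R M
    haveI : Module.Finite R (Module.Dual R M) := finite_dual
    haveI : Module.FinitePresentation R (Module.Dual R M) := Module.finitePresentation_of_finite R _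
    IsLocalizedModule.map S ι (dualMapLoc S A (dualMapLoc S A ι)) (Module.Dual.eval R M) =
      (Module.Dual.eval A Mp).restrictScalars R := by
  have : Module.FinitePresentation R M := Module.finitePresentation_of_finite R M
  have : Module.Finite R (Module.Dual R M) := finite_dual
  have : Module.FinitePresentation R (Module.Dual R M) := Module.finitePresentation_of_finite R _
  refine IsLocalizedModule.ext S ι
    (IsLocalizedModule.map_units (dualMapLoc S A (dualMapLoc S A ι))) ?_
  refine LinearMap.ext fun x => ?_
  rw [LinearMap.comp_apply, LinearMap.comp_apply, IsLocalizedModule.map_apply,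
    LinearMap.restrictScalars_apply]
  refine LinearMap.ext fun ψ => ?_
  obtain ⟨⟨φ, s⟩, hs⟩ := IsLocalizedModule.surj S (dualMapLoc S A ι) ψ
  have hu : IsUnit (algebraMap R A (s : R)) := IsLocalization.map_units A s
  refine hu.mul_left_cancel ?_
  rw [Submonoid.smul_def, ← algebraMap_smul A] at hs
  rw [← smul_eq_mul, ← smul_eq_mul, ← map_smul, ← map_smul, hs, dualMapLoc_apply,
    Module.Dual.eval_apply, Module.Dual.eval_apply, dualMapLoc_apply]

lemma localized_eval_bijective_iff [IsNoetherianRing R] [Module.Finite R M] (p : Ideal R)
    [p.IsPrime] :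
    Function.Bijective (LocalizedModule.map p.primeCompl (Module.Dual.eval R M)) ↔
      Module.IsReflexive (Localization.AtPrime p) (LocalizedModule p.primeCompl M) := by
  have : Module.FinitePresentation R M := Module.finitePresentation_of_finite R M
  have : Module.Finite R (Module.Dual R M) := finite_dual
  have : Module.FinitePresentation R (Module.Dual R M) := Module.finitePresentation_of_finite R _
  let ι := LocalizedModule.mkLinearMap p.primeCompl M
  let δ := dualMapLoc p.primeCompl (Localization.AtPrime p) ι
  rw [← IsLocalizedModule.map_bijective_iff_localizedModuleMap_bijective ι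
    (dualMapLoc p.primeCompl (Localization.AtPrime p) δ), map_eval_eq,
    LinearMap.coe_restrictScalars]
  exact ⟨fun h => ⟨h⟩, fun h => h.bijective_dual_eval'⟩

lemma isReflexive_localized [IsNoetherianRing R] [Module.Finite R M] [Module.IsReflexive R M]
    (p : Ideal R) [p.IsPrime] :
    Module.IsReflexive (Localization.AtPrime p) (LocalizedModule p.primeCompl M) := by
  rw [← localized_eval_bijective_iff]
  exact ⟨LocalizedModule.map_injective p.primeCompl _ (Module.bijective_dual_eval R M).1,
    LocalizedModule.map_surjective p.primeCompl _ (Module.bijective_dual_eval R M).2⟩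

lemma isReflexive_iff_forall_maximal [IsNoetherianRing R] [Module.Finite R M] :
    Module.IsReflexive R M ↔ ∀ (m : Ideal R) (_ : m.IsMaximal),
      Module.IsReflexive (Localization.AtPrime m) (LocalizedModule m.primeCompl M) :=
  ⟨fun _ m _ => isReflexive_localized m, fun h => ⟨bijective_of_localized_maximal _ fun J hJ =>
    (localized_eval_bijective_iff J).mpr (h J hJ)⟩⟩

end Groth.Agent.TF3
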