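import Mathlib
import Groth.Prelude.Def_CAlg
import Groth.Agent.EGA4Alg4.DepthChange
import Groth.Agent.CAlg1.Sk
import Groth.Agent.TF3.DualLoc

set_option autoImplicit false
universe u
open IsLocalRing Groth.Agent.EGA4Alg4 Pointwise

namespace Groth.Agent.TF3

section local_

variable {A : Type u} [CommRing A] [IsNoetherianRing A] {M N : Type u}
  [AddCommGroup M] [Module A M] [Module.Finite A M] [AddCommGroup N] [Module A N] [Module.Finite A N]

omit [IsNoetherianRing A] [Module.Finite A M] [Module.Finite A N] in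
lemma isSMulRegular_hom {x : A} (hx : IsSMulRegular N x) : IsSMulRegular (M →ₗ[A] N) x :=
  fun _ _ h => LinearMap.ext fun m => hx (LinearMap.congr_fun h m)

omit [IsNoetherianRing A] [Module.Finite A M] [Module.Finite A N] in
lemma isSMulRegular_quotSMulTop_hom {x y : A} (hx : IsSMulRegular N x)
    (hy : IsSMulRegular (QuotSMulTop x N) y) : IsSMulRegular (QuotSMulTop x (M →ₗ[A] N)) y := by
  rw [isSMulRegular_iff_right_eq_zero_of_smul] at hy ⊢
  intro q hq
  obtain ⟨φ, rfl⟩ := Submodule.Quotient.mk_surjective _ q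
  rw [← Submodule.Quotient.mk_smul, Submodule.Quotient.mk_eq_zero,
    Submodule.mem_smul_pointwise_iff_exists] at hq
  obtain ⟨ψ, -, hψ⟩ := hq
  have hmem : ∀ m, φ m ∈ LinearMap.range (LinearMap.lsmul A N x) := by
    intro m
    have h1 : y • (Submodule.Quotient.mk (φ m) : QuotSMulTop x N) = 0 := by
      rw [← Submodule.Quotient.mk_smul, Submodule.Quotient.mk_eq_zero]
      rw [← LinearMap.smul_apply, ← hψ, LinearMap.smul_apply]
      exact Submodule.smul_mem_pointwise_smul _ _ _ trivial
    have h2 := (Submodule.Quotient.mk_eq_zero _).mp (hy _ h1)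
    rw [Submodule.mem_smul_pointwise_iff_exists] at h2
    obtain ⟨n, -, hn⟩ := h2
    exact ⟨n, hn⟩
  let e := LinearEquiv.ofInjective (LinearMap.lsmul A N x) hx
  rw [Submodule.Quotient.mk_eq_zero, Submodule.mem_smul_pointwise_iff_exists]
  refine ⟨e.symm.toLinearMap ∘ₗ φ.codRestrict _ hmem, trivial, LinearMap.ext fun m => ?_⟩
  exact congrArg Subtype.val (e.apply_symm_apply ⟨φ m, hmem m⟩)

variable [IsLocalRing A]

lemma natCast_le_depth_hom {k : ℕ} (hk : k ≤ 2) (h : (k : ℕ∞) ≤ LocCoh.depth A N) :
    (k : ℕ∞) ≤ LocCoh.depth A (M →ₗ[A] N) := by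
  rcases subsingleton_or_nontrivial (M →ₗ[A] N) with hH | hH
  · simp [depth_of_subsingleton]
  have : Nontrivial N := by
    by_contra hN
    rw [not_nontrivial_iff_subsingleton] at hN
    exact not_subsingleton _ (show Subsingleton (M →ₗ[A] N) from
      ⟨fun a b => LinearMap.ext fun m => Subsingleton.elim _ _⟩)
  obtain ⟨rs, hlen, hmem, hreg⟩ := (natCast_le_depth_iff k).mp h
  subst hlen
  match rs, hk with
  | [], _ => simp
  | [x], _ =>
    exact length_le_depth ((RingTheory.Sequence.isWeaklyRegular_singleton_iff _ _).mpr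
      (isSMulRegular_hom ((RingTheory.Sequence.isWeaklyRegular_singleton_iff _ _).mp hreg))) hmem
  | [x, y], _ =>
    rw [RingTheory.Sequence.isWeaklyRegular_cons_iff,
      RingTheory.Sequence.isWeaklyRegular_singleton_iff] at hreg
    refine length_le_depth ?_ hmem
    rw [RingTheory.Sequence.isWeaklyRegular_cons_iff,
      RingTheory.Sequence.isWeaklyRegular_singleton_iff]
    exact ⟨isSMulRegular_hom hreg.1, isSMulRegular_quotSMulTop_hom hreg.1 hreg.2⟩
  | _ :: _ :: _ :: _, hk => simp at hk

omit [IsLocalRing A] in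
lemma supportDim_hom_le : Module.supportDim A (M →ₗ[A] N) ≤ Module.supportDim A N := by
  refine Order.krullDim_le_of_strictMono (Set.inclusion ?_) fun a b h => h
  intro p hp
  rw [Module.mem_support_iff_of_finite] at hp ⊢
  refine le_trans (fun r hr => Module.mem_annihilator.mpr fun φ => LinearMap.ext fun m => ?_) hp
  exact Module.mem_annihilator.mp hr (φ m)

lemma min_le_depth_hom {k : ℕ} (hk : k ≤ 2)
    (h : min (k : WithBot ℕ∞) (Module.supportDim A N) ≤ ((LocCoh.depth A N : ℕ∞) : WithBot ℕ∞)) :
    min (k : WithBot ℕ∞) (Module.supportDim A (M →ₗ[A] N)) ≤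
      ((LocCoh.depth A (M →ₗ[A] N) : ℕ∞) : WithBot ℕ∞) := by
  rcases le_or_gt (k : ℕ∞) (LocCoh.depth A N) with hd | hd
  · refine le_trans (min_le_left _ _) ?_
    exact_mod_cast natCast_le_depth_hom hk hd
  · obtain ⟨d, hd'⟩ := ENat.ne_top_iff_exists.mp (ne_top_of_lt hd)
    have hdk : d ≤ k := by rw [← hd', Nat.cast_lt] at hd; exact hd.le
    refine le_trans (min_le_right _ _) (le_trans supportDim_hom_le ?_)
    rcases min_le_iff.mp h with h1 | h1
    · exact absurd (show (k : ℕ∞) ≤ LocCoh.depth A N by exact_mod_cast h1) (not_le.mpr hd)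
    · refine le_trans h1 ?_
      rw [WithBot.coe_le_coe, ← hd']
      exact natCast_le_depth_hom (hdk.trans hk) hd'.le

end local_

section loc

variable {R : Type u} [CommRing R] [IsNoetherianRing R] {M N : Type u}
  [AddCommGroup M] [Module R M] [Module.Finite R M] [AddCommGroup N] [Module R N] [Module.Finite R N]

/-- Localization of Hom at a prime. -/
noncomputable def homLocEquiv (p : Ideal R) [p.IsPrime] :
    LocalizedModule p.primeCompl (M →ₗ[R] N) ≃ₗ[Localization.AtPrime p]
      (LocalizedModule p.primeCompl M →ₗ[Localization.AtPrime p] LocalizedModule p.primeCompl N) :=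
  haveI : Module.FinitePresentation R M := Module.finitePresentation_of_finite R M
  LinearEquiv.extendScalarsOfIsLocalization p.primeCompl (Localization.AtPrime p)
    (IsLocalizedModule.linearEquiv p.primeCompl
      (LocalizedModule.mkLinearMap p.primeCompl (M →ₗ[R] N))
      (IsLocalizedModule.mapExtendScalars p.primeCompl (LocalizedModule.mkLinearMap p.primeCompl M)
        (LocalizedModule.mkLinearMap p.primeCompl N) (Localization.AtPrime p)))

lemma hasSk_hom {k : ℕ} (hk : k ≤ 2) (h : LocCoh.HasSk k R N) :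
    LocCoh.HasSk k R (M →ₗ[R] N) := by
  intro p hp
  have : IsNoetherianRing (Localization.AtPrime p) :=
    IsLocalization.isNoetherianRing p.primeCompl _ inferInstance
  rw [Module.supportDim_eq_of_equiv (homLocEquiv (M := M) (N := N) p),
    depth_eq_of_equiv (homLocEquiv (M := M) (N := N) p)]
  exact min_le_depth_hom hk (h p)

end loc

end Groth.Agent.TF3
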